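import Groth.Agent.Lib.Gor.Liaison
import Groth.Agent.Lib.Gor.Quotient
import Groth.Agent.Lib.Depth.CM
import Mathlib.RingTheory.Regular.RegularSequence
import Mathlib.RingTheory.Nakayama

/-!
# Linkage in a Gorenstein local ring

For a Gorenstein local ring `A` and an ideal `I` with `A/I` maximal Cohen–Macaulay, every map
`I → A` is multiplication by an element, and regular sequences of `A` are regular on `A/I` and on
`A/(0 : I)`, compatibly with the annihilator.
-/

set_option linter.style.haveILetI false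
universe u

open IsLocalRing RingTheory.Sequence CategoryTheory
open scoped Pointwise

namespace GrothLib.Liaison

theorem add_one_cancel {a b : WithBot ℕ∞} (h : a + 1 = b + 1) : a = b := by
  revert h
  cases a <;> cases b <;> intro h
  all_goals first
    | rfl
    | simp_all [← WithBot.coe_one, ← WithBot.coe_add]

/-- The hypothesis on `I`: a proper ideal with `depth A/I ≥ d`. -/
def IsMCMQuot {A : Type u} [CommRing A] [IsLocalRing A] (I : Ideal A) (d : ℕ) : Prop :=
  I ≠ ⊤ ∧ ringKrullDim A = d ∧ (d : ℕ∞) ≤ LocCoh.depth A (A ⧸ I)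

theorem smul_top_quot {A : Type u} [CommRing A] (K : Ideal A) (x : A) :
    x • (⊤ : Submodule A (A ⧸ K)) = ((Ideal.span {x}).map (Ideal.Quotient.mk K)).restrictScalars A := by
  ext y
  simp only [Submodule.restrictScalars_mem, Ideal.map_span, Set.image_singleton,
    Ideal.mem_span_singleton', Submodule.mem_smul_pointwise_iff_exists, Submodule.mem_top, true_and]
  constructor
  · rintro ⟨z, rfl⟩
    exact ⟨z, by rw [Algebra.smul_def, mul_comm]; rfl⟩
  · rintro ⟨z, rfl⟩
    exact ⟨z, by rw [Algebra.smul_def, mul_comm]; rfl⟩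

/-- `(A/K)/x(A/K) = (A/x)/K(A/x)`. -/
noncomputable def quotSMulTopQuot {A : Type u} [CommRing A] (K : Ideal A) (x : A) :
    QuotSMulTop x (A ⧸ K) ≃ₗ[A] ((A ⧸ Ideal.span {x}) ⧸ K.map (Ideal.Quotient.mk (Ideal.span {x}))) :=
  (Submodule.quotEquivOfEq _ _ (smul_top_quot K x)).trans
    ((Submodule.Quotient.restrictScalarsEquiv A _).trans
      (DoubleQuot.quotQuotEquivCommₐ A K (Ideal.span {x})).toLinearEquiv)

section
variable {A : Type u} [CommRing A] [IsNoetherianRing A] [IsLocalRing A]

theorem IsMCMQuot.regular {I : Ideal A} {d : ℕ} (h : IsMCMQuot I d) {x : A} (hx : x ∈ maximalIdeal A)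
    (hreg : IsSMulRegular A x) : IsSMulRegular (A ⧸ I) x := by
  haveI : Nontrivial (A ⧸ I) := Ideal.Quotient.nontrivial_iff.2 h.1
  by_contra hn
  obtain ⟨P, hP, hxP⟩ : ∃ P ∈ associatedPrimes A (A ⧸ I), x ∈ P := by
    have hh : x ∈ ⋃ P ∈ associatedPrimes A (A ⧸ I), (P : Set A) := by
      rw [biUnion_associatedPrimes_eq_compl_regular]
      exact hn
    simpa only [Set.mem_iUnion, SetLike.mem_coe, exists_prop] using hh
  have h1 := GrothLib.Depth.depth_le_dim_quotient hP
  have h2 : ringKrullDim (A ⧸ P) ≤ ringKrullDim (A ⧸ Ideal.span {x}) :=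
    ringKrullDim_le_of_surjective (Ideal.Quotient.factor ((Ideal.span_singleton_le_iff_mem _).2 hxP))
      (Ideal.Quotient.factor_surjective _)
  have h3 : ringKrullDim (A ⧸ Ideal.span {x}) + 1 = ringKrullDim A :=
    ringKrullDim_quotient_span_singleton_succ_eq_ringKrullDim hreg hx
  have h4 : (d : WithBot ℕ∞) ≤ ringKrullDim (A ⧸ Ideal.span {x}) :=
    ((WithBot.coe_le_coe.2 h.2.2).trans h1).trans h2
  rw [h.2.1] at h3
  have h5 : (d : WithBot ℕ∞) + 1 ≤ d := (add_le_add h4 le_rfl).trans_eq h3
  exact absurd h5 (by rw [← Nat.cast_succ, Nat.cast_le]; omega)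

theorem IsMCMQuot.map {I : Ideal A} {d : ℕ} (h : IsMCMQuot I d) {x : A} (hx : x ∈ maximalIdeal A)
    (hreg : IsSMulRegular A x) [IsLocalRing (A ⧸ Ideal.span {x})] :
    ∃ e, d = e + 1 ∧ IsMCMQuot (I.map (Ideal.Quotient.mk (Ideal.span {x}))) e := by
  haveI : Nontrivial (A ⧸ I) := Ideal.Quotient.nontrivial_iff.2 h.1
  have hregI := h.regular hx hreg
  have hdim : ringKrullDim (A ⧸ Ideal.span {x}) + 1 = (d : WithBot ℕ∞) :=
    (ringKrullDim_quotient_span_singleton_succ_eq_ringKrullDim hreg hx).trans h.2.1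
  obtain ⟨e, rfl⟩ : ∃ e, d = e + 1 := by
    refine Nat.exists_eq_succ_of_ne_zero ?_
    rintro rfl
    have h0 : (0 : WithBot ℕ∞) ≤ ringKrullDim (A ⧸ Ideal.span {x}) := ringKrullDim_nonneg_of_nontrivial
    have : (1 : WithBot ℕ∞) ≤ ((0 : ℕ) : WithBot ℕ∞) := by
      calc (1 : WithBot ℕ∞) = 0 + 1 := (zero_add 1).symm
        _ ≤ _ := (add_le_add h0 le_rfl).trans_eq hdim
    exact absurd this (by norm_num)
  refine ⟨e, rfl, ?_, ?_, ?_⟩
  · intro htop
    have h1 : maximalIdeal A = ⊤ := top_le_iff.1 (by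
      have h2 := congrArg (Ideal.comap (Ideal.Quotient.mk (Ideal.span {x}))) htop
      rw [Ideal.comap_top, Ideal.comap_map_of_surjective _ Ideal.Quotient.mk_surjective,
        ← RingHom.ker_eq_comap_bot, Ideal.mk_ker] at h2
      rw [← h2]
      exact sup_le (le_maximalIdeal h.1) ((Ideal.span_singleton_le_iff_mem _).2 hx))
    exact (maximalIdeal.isMaximal A).ne_top h1
  · have h1 : ringKrullDim (A ⧸ Ideal.span {x}) + 1 = (e : WithBot ℕ∞) + 1 := by
      rw [hdim]; norm_num
    exact GrothLib.Liaison.add_one_cancel h1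
  have hd := GrothLib.Depth.idealDepth_quotSMulTop_add_one (maximalIdeal A) hx hregI
  have hd' : (e : ℕ∞) ≤ LocCoh.idealDepth (maximalIdeal A) (QuotSMulTop x (A ⧸ I)) := by
    have := h.2.2
    rw [LocCoh.depth, ← hd] at this
    push_cast at this
    exact (WithTop.add_le_add_iff_right ENat.one_ne_top).1 this
  have hmA : (maximalIdeal A) ≠ ⊤ := (maximalIdeal.isMaximal A).ne_top
  haveI : Nontrivial (QuotSMulTop x (A ⧸ I)) :=
    Submodule.Quotient.nontrivial_iff.2 (Ne.symm (Submodule.top_ne_pointwise_smul_of_mem_jacobson_annihilator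
      (maximalIdeal_le_jacobson _ hx)))
  obtain ⟨rs, hlen, hmem, hrs⟩ :=
    (GrothLib.Depth.le_idealDepth_iff_exists _ (GrothLib.Depth.smul_top_ne_top hmA) e).1 hd'
  let π := Ideal.Quotient.mk (Ideal.span {x})
  let J' := I.map π
  haveI : Nontrivial ((A ⧸ Ideal.span {x}) ⧸ J') := by
    refine Ideal.Quotient.nontrivial_iff.2 fun htop => ?_
    have h2 := congrArg (Ideal.comap π) htop
    rw [Ideal.comap_top, Ideal.comap_map_of_surjective _ Ideal.Quotient.mk_surjective,
      ← RingHom.ker_eq_comap_bot, Ideal.mk_ker] at h2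
    exact hmA (top_le_iff.1 (h2.ge.trans (sup_le (le_maximalIdeal h.1)
      ((Ideal.span_singleton_le_iff_mem _).2 hx))))
  have hm' : maximalIdeal (A ⧸ Ideal.span {x}) ≠ ⊤ := (maximalIdeal.isMaximal _).ne_top
  refine (GrothLib.Depth.le_idealDepth_iff_exists _ (GrothLib.Depth.smul_top_ne_top hm') e).2
    ⟨rs.map π, by simpa using hlen, ?_, ?_⟩
  · intro r hr
    obtain ⟨a, ha, rfl⟩ := List.mem_map.1 hr
    haveI := IsLocalHom.of_surjective π Ideal.Quotient.mk_surjective
    exact map_nonunit π a (hmem a ha)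
  exact (isWeaklyRegular_map_algebraMap_iff (A ⧸ Ideal.span {x}) _ rs).2
    (((quotSMulTopQuot I x).isWeaklyRegular_congr rs).1 hrs)

end

theorem regular_cons {A : Type u} [CommRing A] {K : Ideal A} {x : A} {xs : List A}
    (hreg : IsSMulRegular (A ⧸ K) x)
    (h : IsWeaklyRegular ((A ⧸ Ideal.span {x}) ⧸ K.map (Ideal.Quotient.mk (Ideal.span {x})))
      (xs.map (Ideal.Quotient.mk (Ideal.span {x})))) :
    IsWeaklyRegular (A ⧸ K) (x :: xs) := by
  refine (isWeaklyRegular_cons_iff (A ⧸ K) x xs).2 ⟨hreg, ?_⟩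
  exact ((quotSMulTopQuot K x).isWeaklyRegular_congr xs).2
    ((isWeaklyRegular_map_algebraMap_iff (A ⧸ Ideal.span {x}) _ xs).1 h)

/-- In a zero-dimensional Gorenstein local ring every map `I → A` is a multiplication. -/
theorem exists_extend_zero {A : Type u} [CommRing A] [LocCoh.IsGorensteinLocalRing A]
    (hd : ringKrullDim A = 0) (I : Ideal A) (φ : I →ₗ[A] A) : ∃ c : A, ∀ a : I, φ a = c * a := by
  obtain ⟨d, hd', -, habove, -⟩ := GrothLib.Gor.exists_dim A
  obtain rfl : d = 0 := by rw [hd] at hd'; exact_mod_cast hd'.symm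
  haveI hid : HasInjectiveDimensionLT (ModuleCat.of A A) 1 :=
    GrothLib.Gor.hasInjectiveDimensionLT_of_residue (ModuleCat.of A A) fun i hi => habove i (by omega)
  haveI : Injective (ModuleCat.of A A) := injective_iff_hasInjectiveDimensionLT_one.2 hid
  haveI : Module.Injective A A := Module.injective_module_of_injective_object A A
  obtain ⟨ψ, hψ⟩ := Module.Injective.out (Submodule.subtype I) I.subtype_injective φ
  refine ⟨ψ 1, fun a => ?_⟩
  rw [← hψ, Submodule.subtype_apply, mul_comm, ← smul_eq_mul, ← map_smul, smul_eq_mul, mul_one]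

/-- Over a Gorenstein local ring, `Hom(I, A) = A` when `A/I` is maximal Cohen–Macaulay. -/
theorem exists_extend (d : ℕ) : ∀ (A : Type u) [CommRing A] [LocCoh.IsGorensteinLocalRing A]
    (I : Ideal A), IsMCMQuot I d → ∀ φ : I →ₗ[A] A, ∃ c : A, ∀ a : I, φ a = c * a := by
  induction d with
  | zero =>
    intro A _ _ I h φ
    exact exists_extend_zero (by rw [h.2.1, Nat.cast_zero]) I φ
  | succ d ih =>
    intro A _ _ I h φ
    haveI : Nontrivial (A ⧸ I) := Ideal.Quotient.nontrivial_iff.2 h.1
    obtain ⟨r, hr, hdep, -⟩ := GrothLib.Gor.exists_dim A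
    obtain ⟨x, hx, hreg⟩ : ∃ x ∈ maximalIdeal A, IsSMulRegular A x := by
      refine (GrothLib.Depth.one_le_idealDepth_iff (maximalIdeal.isMaximal A).ne_top).1 ?_
      rw [← LocCoh.depth, hdep]
      rw [h.2.1] at hr
      have hr' : r = d + 1 := by exact_mod_cast hr.symm
      rw [hr']
      push_cast
      exact le_add_self
    have hregI := h.regular hx hreg
    haveI := GrothLib.Gor.isLocalRing_quotient hx
    haveI := GrothLib.Gor.isGorensteinLocalRing_quotient hx hreg
    obtain ⟨e, he, hI'⟩ := h.map hx hreg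
    obtain rfl : e = d := by omega
    set π := Ideal.Quotient.mk (Ideal.span {x}) with hπ
    have hdiv : ∀ (a : I), π (a : A) = 0 → ∀ ψ : I →ₗ[A] A, π (ψ a) = 0 := by
      intro a ha ψ
      obtain ⟨b, hb⟩ := Ideal.mem_span_singleton'.1 (Ideal.Quotient.eq_zero_iff_mem.1 ha)
      have hbI : b ∈ I := by
        have h1 : x • (Ideal.Quotient.mk I b) = x • (0 : A ⧸ I) := by
          rw [smul_zero, ← Ideal.Quotient.mkₐ_eq_mk A, ← map_smul, Ideal.Quotient.mkₐ_eq_mk,
            Ideal.Quotient.eq_zero_iff_mem, smul_eq_mul, mul_comm, hb]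
          exact a.2
        exact Ideal.Quotient.eq_zero_iff_mem.1 (hregI h1)
      have : a = x • (⟨b, hbI⟩ : I) := Subtype.ext (by simp [← hb, mul_comm])
      rw [this, map_smul, smul_eq_mul, map_mul,
        Ideal.Quotient.eq_zero_iff_mem.2 (Ideal.mem_span_singleton_self x), zero_mul]
    have hNak : (⊤ : Submodule A (I →ₗ[A] A)) ≤
        Submodule.span A {(Submodule.subtype I : I →ₗ[A] A)} ⊔ maximalIdeal A • ⊤ := by
      intro ψ _
      have hsur : ∀ y : (I.map π : Ideal (A ⧸ Ideal.span {x})), ∃ a : I, π (a : A) = (y : A ⧸ Ideal.span {x}) :=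
        fun y => by
          obtain ⟨a, ha, hay⟩ := (Ideal.mem_map_iff_of_surjective π Ideal.Quotient.mk_surjective).1 y.2
          exact ⟨⟨a, ha⟩, hay⟩
      choose sec hsec using hsur
      have hwd : ∀ a b : I, π (a : A) = π (b : A) → π (ψ a) = π (ψ b) := fun a b hab => by
        rw [← sub_eq_zero, ← map_sub, ← map_sub]
        exact hdiv (a - b) (by simp [hab]) ψ
      let g : (I.map π : Ideal (A ⧸ Ideal.span {x})) →ₗ[A ⧸ Ideal.span {x}] A ⧸ Ideal.span {x} :=
        { toFun := fun y => π (ψ (sec y))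
          map_add' := fun y z => by
            rw [← map_add π, ← map_add ψ]
            exact hwd _ _ (by simp [hsec])
          map_smul' := fun r y => by
            obtain ⟨r, rfl⟩ := Ideal.Quotient.mk_surjective r
            rw [RingHom.id_apply, smul_eq_mul]
            show _ = π r * π (ψ (sec y))
            rw [← map_mul π, ← smul_eq_mul r, ← map_smul ψ]
            exact hwd _ _ (by
              rw [hsec, Submodule.coe_smul, smul_eq_mul, Submodule.coe_smul, smul_eq_mul, map_mul, hsec]) }
      obtain ⟨c, hc⟩ := ih _ _ hI' g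
      obtain ⟨c, rfl⟩ := Ideal.Quotient.mk_surjective c
      have hex : ∀ a : I, ∃ b : A, b * x = ψ a - c * a := fun a => by
        refine Ideal.mem_span_singleton'.1 (Ideal.Quotient.eq.1 ?_)
        have h1 := hc ⟨π (a : A), Ideal.mem_map_of_mem π a.2⟩
        change π (ψ (sec _)) = π c * π (a : A) at h1
        show π (ψ a) = π (c * a)
        rw [map_mul, ← h1]
        exact hwd _ _ (hsec ⟨π (a : A), Ideal.mem_map_of_mem π a.2⟩).symm
      choose q hq using hex
      let ψ₁ : I →ₗ[A] A :=
        { toFun := q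
          map_add' := fun a b => hreg (by
            simp only [smul_eq_mul]
            rw [mul_comm, hq, mul_comm x, add_mul, hq, hq]
            simp only [map_add, Submodule.coe_add]
            ring)
          map_smul' := fun r a => hreg (by
            simp only [smul_eq_mul, RingHom.id_apply, map_smul, Submodule.coe_smul]
            rw [mul_comm x (q _), hq, ← mul_assoc, mul_comm x r, mul_assoc, mul_comm x (q a), hq]
            simp only [map_smul, Submodule.coe_smul, smul_eq_mul]
            ring) }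
      refine Submodule.mem_sup.2 ⟨c • Submodule.subtype I, Submodule.smul_mem _ _ (Submodule.mem_span_singleton_self _),
        x • ψ₁, Submodule.smul_mem_smul hx Submodule.mem_top, LinearMap.ext fun a => ?_⟩
      show c * (a : A) + x * q a = ψ a
      rw [mul_comm x, hq]
      ring
    have htop := Submodule.le_of_le_smul_of_le_jacobson_bot Module.Finite.fg_top
      (maximalIdeal_le_jacobson _) hNak
    obtain ⟨c, hc⟩ := Submodule.mem_span_singleton.1 (htop (Submodule.mem_top (x := φ)))
    exact ⟨c, fun a => by rw [← hc]; rfl⟩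

section
variable {A : Type u} [CommRing A] [LocCoh.IsGorensteinLocalRing A] {I : Ideal A}

theorem regular_quotient_annihilator {x : A} (hreg : IsSMulRegular A x) :
    IsSMulRegular (A ⧸ Submodule.annihilator I) x := by
  refine (isSMulRegular_quotient_iff_mem_of_smul_mem _ _).2 fun a ha => ?_
  rw [Submodule.mem_annihilator] at ha ⊢
  intro i hi
  have h := ha i hi
  rw [smul_eq_mul, smul_eq_mul, mul_assoc] at h
  exact hreg (show x * (a * i) = x * 0 by rw [h, mul_zero])

theorem annihilator_sup_span {d : ℕ} (h : IsMCMQuot I d) {x : A} (hreg : IsSMulRegular A x) :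
    (Submodule.annihilator I ⊔ Ideal.span {x}) = Submodule.colon (Ideal.span {x}) (I : Set A) := by
  refine le_antisymm (sup_le ?_ ?_) fun a ha => ?_
  · intro a ha
    rw [Submodule.mem_colon]
    intro i hi
    rw [smul_eq_mul, show a * i = 0 from Submodule.mem_annihilator.1 ha i hi]
    exact zero_mem _
  · intro a ha
    rw [Submodule.mem_colon]
    intro i _
    exact Ideal.mul_mem_right _ _ ha
  have hex : ∀ i : I, ∃ b : A, b * x = a * i := fun i =>
    Ideal.mem_span_singleton'.1 (Submodule.mem_colon.1 ha i i.2)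
  choose q hq using hex
  let φ : I →ₗ[A] A :=
    { toFun := q
      map_add' := fun i j => hreg (by
        simp only [smul_eq_mul]
        rw [mul_comm, hq, mul_comm x, add_mul, hq, hq, Submodule.coe_add, mul_add])
      map_smul' := fun r i => hreg (by
        simp only [smul_eq_mul, RingHom.id_apply]
        rw [mul_comm x (q _), hq, mul_left_comm x r, mul_comm x (q i), hq, Submodule.coe_smul, smul_eq_mul,
          mul_left_comm]) }
  obtain ⟨c, hc⟩ := exists_extend d A I h φ
  refine Submodule.mem_sup.2 ⟨a - c * x, ?_, c * x, Ideal.mem_span_singleton'.2 ⟨c, rfl⟩, sub_add_cancel _ _⟩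
  rw [Submodule.mem_annihilator]
  intro i hi
  rw [smul_eq_mul, sub_mul, sub_eq_zero, ← hq ⟨i, hi⟩, show q ⟨i, hi⟩ = c * i from hc ⟨i, hi⟩]
  ring

end

/-- A regular sequence of `A` is regular on `A/I` and `A/(0 : I)`, `(0 : I)` specialises to the colon
ideal and meets the sequence ideal in the product. -/
theorem linked_of_regular (n : ℕ) : ∀ (A : Type u) [CommRing A] [LocCoh.IsGorensteinLocalRing A]
    (I : Ideal A) (d : ℕ), IsMCMQuot I d → ∀ xs : List A, xs.length = n → (∀ x ∈ xs, x ∈ maximalIdeal A) →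
    IsWeaklyRegular A xs →
    IsWeaklyRegular (A ⧸ I) xs ∧ IsWeaklyRegular (A ⧸ Submodule.annihilator I) xs ∧
      Submodule.annihilator I ⊔ Ideal.ofList xs = Submodule.colon (Ideal.ofList xs) (I : Set A) ∧
      Submodule.annihilator I ⊓ Ideal.ofList xs = Ideal.ofList xs * Submodule.annihilator I := by
  induction n with
  | zero =>
    intro A _ _ I d _ xs hl _ _
    obtain rfl : xs = [] := List.length_eq_zero_iff.1 hl
    refine ⟨IsWeaklyRegular.nil _ _, IsWeaklyRegular.nil _ _, ?_, by simp⟩
    rw [Ideal.ofList_nil, sup_bot_eq, Submodule.bot_colon', Submodule.annihilator]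
    simp
  | succ n ih =>
    intro A _ _ I d h xs hl hmem hxs
    obtain ⟨x, xs, rfl⟩ : ∃ x l, xs = x :: l := List.exists_cons_of_length_eq_add_one hl
    rw [isWeaklyRegular_cons_iff] at hxs
    obtain ⟨hreg, hxs⟩ := hxs
    have hx : x ∈ maximalIdeal A := hmem x List.mem_cons_self
    haveI := GrothLib.Gor.isLocalRing_quotient hx
    haveI := GrothLib.Gor.isGorensteinLocalRing_quotient hx hreg
    obtain ⟨e, -, hI'⟩ := h.map hx hreg
    set π := Ideal.Quotient.mk (Ideal.span {x}) with hπ
    have hπs : Function.Surjective π := Ideal.Quotient.mk_surjective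
    set J := Submodule.annihilator I with hJ
    have hJ' : Submodule.annihilator (I.map π) = J.map π := by
      ext y
      obtain ⟨a, rfl⟩ := hπs y
      rw [Submodule.mem_annihilator, Ideal.mem_map_iff_of_surjective π hπs]
      constructor
      · intro ha
        have : a ∈ J ⊔ Ideal.span {x} := by
          rw [hJ, annihilator_sup_span h hreg, Submodule.mem_colon]
          intro i hi
          rw [smul_eq_mul, ← Ideal.Quotient.eq_zero_iff_mem, map_mul]
          exact ha (π i) (Ideal.mem_map_of_mem π hi)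
        obtain ⟨j, hj, z, hz, rfl⟩ := Submodule.mem_sup.1 this
        exact ⟨j, hj, by rw [map_add, Ideal.Quotient.eq_zero_iff_mem.2 hz, add_zero]⟩
      · rintro ⟨j, hj, hja⟩ m hm
        obtain ⟨i, hi, rfl⟩ := (Ideal.mem_map_iff_of_surjective π hπs).1 hm
        rw [← hja, smul_eq_mul, ← map_mul, show j * i = 0 from Submodule.mem_annihilator.1 hj i hi, map_zero]
    have hmem' : ∀ z ∈ xs.map π, z ∈ maximalIdeal (A ⧸ Ideal.span {x}) := fun z hz => by
      obtain ⟨a, ha, rfl⟩ := List.mem_map.1 hz
      haveI := IsLocalHom.of_surjective π hπs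
      exact map_nonunit π a (hmem a (List.mem_cons_of_mem _ ha))
    have hxs' : IsWeaklyRegular (A ⧸ Ideal.span {x}) (xs.map π) := by
      refine (isWeaklyRegular_map_algebraMap_iff (A ⧸ Ideal.span {x}) _ xs).2
        (((Submodule.quotEquivOfEq (x • (⊤ : Submodule A A)) (Ideal.span {x}) ?_)).isWeaklyRegular_congr xs |>.1 hxs)
      rw [← Submodule.ideal_span_singleton_smul, smul_eq_mul, Ideal.mul_top]
    obtain ⟨h1, h2, h3, h4⟩ := ih (A ⧸ Ideal.span {x}) (I.map π) e hI' (xs.map π)
      (by simpa using hl) hmem' hxs'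
    rw [hJ'] at h2 h3 h4
    have hlist : (Ideal.ofList (x :: xs)).map π = Ideal.ofList (xs.map π) := by
      rw [Ideal.map_ofList, List.map_cons, Ideal.ofList_cons,
        Ideal.Quotient.eq_zero_iff_mem.2 (Ideal.mem_span_singleton_self x)]
      simp
    have hker : Ideal.span {x} ≤ Ideal.ofList (x :: xs) := by
      rw [Ideal.ofList_cons]; exact le_sup_left
    have hregJ : IsSMulRegular (A ⧸ J) x := regular_quotient_annihilator hreg
    refine ⟨regular_cons (h.regular hx hreg) h1, regular_cons hregJ h2, le_antisymm (sup_le ?_ ?_) ?_, ?_⟩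
    · intro a ha
      rw [Submodule.mem_colon]
      intro i hi
      rw [smul_eq_mul, show a * i = 0 from Submodule.mem_annihilator.1 ha i hi]
      exact zero_mem _
    · intro a ha
      rw [Submodule.mem_colon]
      intro i _
      exact Ideal.mul_mem_right _ _ ha
    · intro a ha
      have h5 : π a ∈ J.map π ⊔ Ideal.ofList (xs.map π) := by
        rw [h3, Submodule.mem_colon]
        intro m hm
        obtain ⟨i, hi, rfl⟩ := (Ideal.mem_map_iff_of_surjective π hπs).1 hm
        rw [smul_eq_mul, ← map_mul, ← hlist]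
        exact Ideal.mem_map_of_mem π (Submodule.mem_colon.1 ha i hi)
      rw [← hlist, ← Ideal.map_sup, ← Ideal.mem_comap, Ideal.comap_map_of_surjective π hπs,
        ← RingHom.ker_eq_comap_bot, Ideal.mk_ker] at h5
      exact (sup_le le_rfl (hker.trans le_sup_right) : _ ≤ _) h5
    · refine le_antisymm (fun a ha => ?_) (le_inf Ideal.mul_le_right Ideal.mul_le_left)
      have h5 : π a ∈ Ideal.ofList (xs.map π) * J.map π := by
        rw [← h4]
        exact ⟨Ideal.mem_map_of_mem π ha.1, hlist ▸ Ideal.mem_map_of_mem π ha.2⟩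
      rw [← hlist, ← Ideal.map_mul] at h5
      obtain ⟨b, hb, hba⟩ := (Ideal.mem_map_iff_of_surjective π hπs).1 h5
      have hbJ : b ∈ J := Ideal.mul_le_right hb
      obtain ⟨z, hz⟩ := Ideal.mem_span_singleton'.1 (Ideal.Quotient.eq.1 hba.symm)
      have hzJ : z ∈ J := by
        refine (isSMulRegular_quotient_iff_mem_of_smul_mem _ _).1 hregJ z ?_
        rw [smul_eq_mul, mul_comm, hz]
        exact sub_mem ha.1 hbJ
      have h6 : a = b + x * z := by rw [mul_comm, hz]; ring
      rw [h6]
      exact add_mem hb (Ideal.mul_mem_mul (Ideal.subset_span List.mem_cons_self) hzJ)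

end GrothLib.Liaison
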