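import Groth.Agent.Lib.Kunz.Local
import Groth.Agent.Lib.Faltings.Transfer
import Groth.Agent.Lib.Depth.CM

/-!
# Flatness of quotients over a regular local ring
-/

universe u

open IsLocalRing RingTheory.Sequence

namespace GrothLib.Liaison

theorem depth_quotient {A : Type u} [CommRing A] [IsLocalRing A] [IsNoetherianRing A] (I : Ideal A)
    [IsLocalRing (A ⧸ I)] :
    LocCoh.depth A (A ⧸ I) = LocCoh.depth (A ⧸ I) (A ⧸ I) :=
  GrothLib.Faltings.depth_eq_of_surjective Ideal.Quotient.mk_surjective (A ⧸ I)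

/-- A weakly regular sequence generating the maximal ideal of a regular local ring. -/
theorem exists_regular_system (R : Type u) [CommRing R] [IsRegularLocalRing R] :
    ∃ ts : List R, IsWeaklyRegular R ts ∧ (∀ t ∈ ts, t ∈ maximalIdeal R) ∧ IsField (R ⧸ Ideal.ofList ts) := by
  classical
  obtain ⟨rs, hreg, hmem, hlen⟩ := GrothLib.CMFree.exists_weaklyRegular_of_isRegularLocalRing R
  set n := (maximalIdeal R).spanFinrank
  have hdim : ringKrullDim R = n := (IsRegularLocalRing.spanFinrank_maximalIdeal (R := R)).symm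
  have hrn : rs.length = n := by rw [hdim] at hlen; exact_mod_cast hlen
  let e : (R ⧸ (⊥ : Ideal R)) ≃ₗ[R] R := Submodule.quotEquivOfEqBot ⊥ rfl
  have hm' : maximalIdeal R • (⊤ : Submodule R (R ⧸ (⊥ : Ideal R))) ≠ ⊤ := fun h => (maximalIdeal.isMaximal R).ne_top (by
    have := congrArg (Submodule.map e.toLinearMap) h
    rwa [Submodule.map_smul'', Submodule.map_top, LinearEquiv.range, smul_eq_mul, Ideal.mul_top] at this)
  have hCM : GrothLib.TightSop.CM R n :=
    ⟨hdim, (GrothLib.Depth.le_idealDepth_iff_exists _ hm' _).2 ⟨rs, hrn, hmem, (e.isWeaklyRegular_congr rs).2 hreg⟩⟩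
  obtain ⟨gens, hgens⟩ := Submodule.FG.exists_span_set_encard_eq_spanFinrank (maximalIdeal R).fg_of_isNoetherianRing
  have hfin : gens.Finite := Set.finite_of_encard_eq_coe hgens.1
  let l := hfin.toFinset.toList
  have hl : Ideal.ofList l = maximalIdeal R := by
    rw [← hgens.2]
    exact congrArg Ideal.span (Set.ext fun x => by simp [l])
  have hsop : GrothLib.TightSop.IsSop n l := by
    refine ⟨?_, by rw [hl]; exact (maximalIdeal.isMaximal R).isPrime.radical⟩
    rw [Finset.length_toList]
    have := hgens.1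
    rw [hfin.encard_eq_coe_toFinset_card] at this
    exact_mod_cast this
  refine ⟨l, GrothLib.TightSop.isWeaklyRegular_of_sop hCM hsop, fun t ht => hsop.mem ht, ?_⟩
  rw [hl]
  exact (Ideal.Quotient.maximal_ideal_iff_isField_quotient _).1 (maximalIdeal.isMaximal R)

theorem flat_quotient {R A : Type u} [CommRing R] [CommRing A] [IsNoetherianRing R] [IsLocalRing R]
    [IsNoetherianRing A] [IsLocalRing A] [Algebra R A] [IsLocalHom (algebraMap R A)] (K : Ideal A) (ts : List R)
    (hts : IsWeaklyRegular R ts) (hk : IsField (R ⧸ Ideal.ofList ts)) (hm : ∀ t ∈ ts, t ∈ maximalIdeal R)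
    (h : IsWeaklyRegular (A ⧸ K) (ts.map (algebraMap R A))) : Module.Flat R (A ⧸ K) := by
  rcases subsingleton_or_nontrivial (A ⧸ K) with hs | hn
  · infer_instance
  haveI : IsLocalRing (A ⧸ K) := IsLocalRing.of_surjective' (Ideal.Quotient.mk K) Ideal.Quotient.mk_surjective
  haveI := IsLocalHom.of_surjective (Ideal.Quotient.mk K) Ideal.Quotient.mk_surjective
  refine GrothLib.FibreFlat.flat_of_weaklyRegular ts hts ((isWeaklyRegular_map_algebraMap_iff A _ ts).1 h) ?_ hk
  intro t ht
  exact map_nonunit (Ideal.Quotient.mk K) _ (map_nonunit (algebraMap R A) t (hm t ht))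

end GrothLib.Liaison
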